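import Cfsg.Agent.H793.PC.Pi_m3
import Cfsg.Agent.H732.StInv
import Cfsg.Agent.H672.Over
import Cfsg.Agent.S4456
import Cfsg.Agent.H424.DegTools
import Cfsg.Agent.FastGrp
import Cfsg.Agent.Prune
set_option linter.all false

section
prune_inst 0x7f00000000000000000000000000000000000000000000000000000000000000000000000000000000000000000000000000000000000000000000000000000000000000000000000000000000000000003fffffffffffffffffffffffffffbeffbdffffffff

-- part: H793/PC/Nor
section
set_option linter.all false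
open scoped Cfsg.Agent.FastGrp

/-!
# Product characters of non-abelian minimal normal subgroups (helper793)
-/

set_option autoImplicit false
set_option linter.unusedSectionVars false
set_option linter.style.haveILetI false

namespace Cfsg.Agent.H793.PC

open Cfsg Cfsg.Agent.Characters.Core Subgroup Cfsg.Agent.Lib.MinNormalNonabelian
  Cfsg.Agent.Lib.MinNormal Cfsg.Agent.H672

universe u v

/-- the condition on the sum over the Sylow normalizers -/
def SumC (p : ℕ) {A : Type*} [Group A] (θ : A → ℂ) : Prop :=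
  ∀ P : Sylow p A, ∑ᶠ b : ↥(Subgroup.normalizer ((P : Subgroup A) : Set A)), θ b =
    (Nat.card ↥(Subgroup.normalizer ((P : Subgroup A) : Set A)) : ℂ)

theorem SumC.comp {p : ℕ} [hp : Fact p.Prime] {A : Type*} [Group A] [Finite A] {B : Type*} [Group B] [Finite B]
    {θ : B → ℂ} (h : SumC p θ) (e : A ≃* B) : SumC p (θ ∘ e) := by
  intro P
  have hs : Function.Surjective e.toMonoidHom := e.surjective
  have h1 := h (P.mapSurjective hs)
  have hN : Subgroup.normalizer (((P.mapSurjective hs : Sylow p B) : Subgroup B) : Set B) =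
      (Subgroup.normalizer ((P : Subgroup A) : Set A)).map e.toMonoidHom := by
    ext b
    obtain ⟨a, rfl⟩ := e.surjective b
    have h2 : ∀ x : A, e x ∈ ((P.mapSurjective hs : Sylow p B) : Subgroup B) ↔ x ∈ (P : Subgroup A) := by
      intro x
      constructor
      · rintro ⟨y, hy, hyx⟩
        have : y = x := e.injective hyx
        rw [← this]; exact hy
      · intro hx
        exact ⟨x, hx, rfl⟩
    rw [Subgroup.mem_normalizer_iff]
    constructor
    · intro h3
      refine ⟨a, ?_, rfl⟩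
      rw [SetLike.mem_coe, Subgroup.mem_normalizer_iff]
      intro x
      have h4 := h3 (e x)
      rw [← map_mul, ← map_inv, ← map_mul, h2, h2] at h4
      exact h4
    · rintro ⟨a', ha', haa⟩ y
      obtain ⟨x, rfl⟩ := e.surjective y
      have : a' = a := e.injective haa
      subst this
      rw [← map_mul, ← map_inv, ← map_mul, h2, h2]
      exact Subgroup.mem_normalizer_iff.1 ha' x
  let e' : ↥(Subgroup.normalizer ((P : Subgroup A) : Set A)) ≃
      ↥(Subgroup.normalizer (((P.mapSurjective hs : Sylow p B) : Subgroup B) : Set B)) :=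
    ((MulEquiv.subgroupMap e _).trans (MulEquiv.subgroupCongr hN.symm)).toEquiv
  rw [← finsum_comp_equiv e', ← Nat.card_congr e'] at h1
  exact h1

variable {G : Type u} [Group G] {M : Subgroup G}

/-- `M` is the direct product of the centreless members of `minSet M` -/
structure Dec (M : Subgroup G) : Prop where
  ind : sSupIndep (minSet M)
  sup : sSup (minSet M) = M
  ctr : ∀ T ∈ minSet M, ∀ z ∈ T, (∀ t ∈ T, Commute z t) → z = 1

namespace Dec

variable (h : Dec M)
include h

theorem pw : Pairwise fun S T : minSet M => ∀ x y : G, x ∈ (S : Subgroup G) → y ∈ (T : Subgroup G) → Commute x y := by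
  intro S T hne x y hx hy
  exact commute_of_mem h.ind (fun S hS => hS.2.2.1) (fun S hS => hS.1) S.2 T.2 (fun h => hne (Subtype.ext h)) hx hy

variable [Fintype (minSet M)]

/-- the product map -/
noncomputable def phi : (∀ T : minSet M, (T : Subgroup G)) →* G := Subgroup.noncommPiCoprod h.pw

theorem phi_inj : Function.Injective h.phi := by
  apply injective_noncommPiCoprod_of_iSupIndep
  exact (sSupIndep_iff _).1 h.ind

theorem phi_range : h.phi.range = M := by
  have h1 : h.phi.range = ⨆ T : minSet M, (T : Subgroup G) := Subgroup.noncommPiCoprod_range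
  rw [h1, ← sSup_eq_iSup', h.sup]

/-- `M` is a direct product -/
noncomputable def E : (∀ T : minSet M, (T : Subgroup G)) ≃* M :=
  (MonoidHom.ofInjective h.phi_inj).trans (MulEquiv.subgroupCongr h.phi_range)

theorem coe_E (f : ∀ T : minSet M, (T : Subgroup G)) : (h.E f : G) = h.phi f := rfl

/-- the coordinates -/
noncomputable def co (T : minSet M) : M →* (T : Subgroup G) :=
  (Pi.evalMonoidHom _ T).comp h.E.symm.toMonoidHom

theorem co_E (f : ∀ T : minSet M, (T : Subgroup G)) (T : minSet M) : h.co T (h.E f) = f T := by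
  show h.E.symm (h.E f) T = f T
  rw [MulEquiv.symm_apply_apply]

theorem co_comm (x : M) (T : minSet M) {y : G} (hy : y ∈ (T : Subgroup G)) :
    (h.co T x : G)⁻¹ * (x : G) * y = y * ((h.co T x : G)⁻¹ * (x : G)) := by
  classical
  obtain ⟨f, rfl⟩ := h.E.surjective x
  rw [h.co_E, h.coe_E]
  have h1 : h.phi (Pi.mulSingle T (f T)) = f T := Subgroup.noncommPiCoprod_mulSingle _ _
  have h2 : h.phi (Pi.mulSingle T ⟨y, hy⟩) = y := Subgroup.noncommPiCoprod_mulSingle _ _
  have h3 : (f T : G)⁻¹ * h.phi f = h.phi ((Pi.mulSingle T (f T))⁻¹ * f) := by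
    rw [map_mul, map_inv, h1]
  rw [h3]
  conv_lhs => rw [← h2, ← map_mul]
  conv_rhs => rw [← h2, ← map_mul]
  congr 1
  funext j
  by_cases hj : j = T
  · subst hj; simp
  · simp [Pi.mulSingle_eq_of_ne hj]

theorem co_unique (x : M) (T : minSet M) {a : G} (ha : a ∈ (T : Subgroup G))
    (hc : ∀ y ∈ (T : Subgroup G), a⁻¹ * (x : G) * y = y * (a⁻¹ * (x : G))) : (h.co T x : G) = a := by
  have h1 : ∀ y ∈ (T : Subgroup G), Commute (a⁻¹ * (h.co T x : G)) y := by
    intro y hy
    have h2 : Commute (a⁻¹ * (x : G)) y := hc y hy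
    have h3 : Commute ((h.co T x : G)⁻¹ * (x : G)) y := h.co_comm x T hy
    have h4 := h2.mul_left h3.inv_left
    have h5 : a⁻¹ * (x : G) * ((h.co T x : G)⁻¹ * (x : G))⁻¹ = a⁻¹ * (h.co T x : G) := by group
    rwa [h5] at h4
  have h2 := h.ctr T T.2 _ (mul_mem (inv_mem ha) (h.co T x).2) h1
  exact (inv_mul_eq_one.1 h2).symm

end Dec

section

variable [M.Normal]

/-- the permutation of the simple factors -/
def cj (g : G) : Equiv.Perm (minSet M) where
  toFun T := ⟨(T : Subgroup G).map (MulAut.conj g).toMonoidHom, map_conj_mem_minSet T.2 g⟩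
  invFun T := ⟨(T : Subgroup G).map (MulAut.conj g⁻¹).toMonoidHom, map_conj_mem_minSet T.2 g⁻¹⟩
  left_inv T := Subtype.ext (by
    show ((T : Subgroup G).map (MulAut.conj g).toMonoidHom).map (MulAut.conj g⁻¹).toMonoidHom = T
    rw [map_conj_map_conj, inv_mul_cancel]
    ext x; simp)
  right_inv T := Subtype.ext (by
    show ((T : Subgroup G).map (MulAut.conj g⁻¹).toMonoidHom).map (MulAut.conj g).toMonoidHom = T
    rw [map_conj_map_conj, mul_inv_cancel]
    ext x; simp)

theorem coe_cj (g : G) (T : minSet M) : ((cj g T : minSet M) : Subgroup G) = (T : Subgroup G).map (MulAut.conj g).toMonoidHom := rfl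

theorem mem_cj (g : G) (T : minSet M) {x : G} : x ∈ ((cj g T : minSet M) : Subgroup G) ↔ g⁻¹ * x * g ∈ (T : Subgroup G) := by
  rw [coe_cj]
  constructor
  · rintro ⟨y, hy, rfl⟩
    show g⁻¹ * (g * y * g⁻¹) * g ∈ _
    have : g⁻¹ * (g * y * g⁻¹) * g = y := by group
    rw [this]; exact hy
  · intro hx
    refine ⟨g⁻¹ * x * g, hx, ?_⟩
    show g * (g⁻¹ * x * g) * g⁻¹ = x
    group

/-- conjugation -/
def ci (g : G) (T : minSet M) : (T : Subgroup G) ≃* ((cj g T : minSet M) : Subgroup G) :=
  MulEquiv.subgroupMap (MulAut.conj g) (T : Subgroup G)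

theorem coe_ci (g : G) (T : minSet M) (x : (T : Subgroup G)) : (ci g T x : G) = g * x * g⁻¹ := rfl

end

namespace Dec

variable (h : Dec M) [Fintype (minSet M)] [hM : M.Normal]

theorem co_conj (g : G) (T : minSet M) (x : M) :
    h.co (cj g T) ⟨g * x * g⁻¹, hM.conj_mem (x : G) x.2 g⟩ = ci g T (h.co T x) := by
  apply Subtype.ext
  apply h.co_unique _ _ (ci g T (h.co T x)).2
  intro y hy
  rw [mem_cj] at hy
  have h1 := h.co_comm x T hy
  rw [coe_ci]
  show (g * (h.co T x : G) * g⁻¹)⁻¹ * (g * (x : G) * g⁻¹) * y = y * ((g * (h.co T x : G) * g⁻¹)⁻¹ * (g * (x : G) * g⁻¹))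
  calc (g * (h.co T x : G) * g⁻¹)⁻¹ * (g * (x : G) * g⁻¹) * y
      = g * ((h.co T x : G)⁻¹ * (x : G) * (g⁻¹ * y * g)) * g⁻¹ := by group
    _ = g * ((g⁻¹ * y * g) * ((h.co T x : G)⁻¹ * (x : G))) * g⁻¹ := by rw [h1]
    _ = _ := by group

/-- product functions -/
noncomputable def F (f : ∀ T : minSet M, ↥(T : Subgroup G) → ℂ) : M → ℂ := fun x => ∏ T : minSet M, f T (h.co T x)

omit hM in
theorem F_E (f : ∀ T : minSet M, ↥(T : Subgroup G) → ℂ) (x : ∀ T : minSet M, (T : Subgroup G)) :
    h.F f (h.E x) = ∏ T : minSet M, f T (x T) := by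
  unfold F
  exact Finset.prod_congr rfl fun T _ => by rw [h.co_E]

omit hM in
theorem F_one (f : ∀ T : minSet M, ↥(T : Subgroup G) → ℂ) : h.F f 1 = ∏ T : minSet M, f T 1 := by
  unfold F
  exact Finset.prod_congr rfl fun T _ => by rw [map_one]

theorem F_conj (f : ∀ T : minSet M, ↥(T : Subgroup G) → ℂ) (g : G) (x : M) :
    h.F f ⟨g * x * g⁻¹, hM.conj_mem (x : G) x.2 g⟩ = h.F (fun T => f (cj g T) ∘ ci g T) x := by
  unfold F
  rw [← Equiv.prod_comp (cj g)]
  refine Finset.prod_congr rfl fun T _ => ?_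
  rw [h.co_conj]
  rfl

omit hM in
theorem isIrr_F [Finite G] {f : ∀ T : minSet M, ↥(T : Subgroup G) → ℂ} (hf : ∀ T : minSet M, IsIrrCharacter ↥(T : Subgroup G) (f T)) :
    IsIrrCharacter M (h.F f) := by
  have h1 := isIrr_comp h.E.symm.toMonoidHom h.E.symm.surjective (isIrr_pi hf)
  exact h1

theorem mem_inertia_F [Finite G] {f : ∀ T : minSet M, ↥(T : Subgroup G) → ℂ}
    (hf : ∀ T : minSet M, IsIrrCharacter ↥(T : Subgroup G) (f T)) {g : G} :
    g ∈ inertia M (h.F f) ↔ ∀ T, f (cj g T) ∘ ci g T = f T := by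
  classical
  rw [mem_inertia_iff]
  constructor
  · intro h1
    have h2 : (fun T => f (cj g T) ∘ ci g T) = f := by
      apply Cfsg.Agent.H663.GmnStep.pi_unique (A := fun T : minSet M => (T : Subgroup G))
      · intro T
        exact isIrr_comp (ci g T).toMonoidHom (ci g T).surjective (hf (cj g T))
      · exact hf
      · intro x
        have h3 := h1 (h.E x)
        rw [h.F_conj, h.F_E, h.F_E] at h3
        exact h3
    exact fun T => congrFun h2 T
  · intro h1 x
    rw [h.F_conj]
    congr 1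
    funext T
    exact h1 T

omit hM in
theorem sum_F [Finite G] {p : ℕ} [hp : Fact p.Prime] {f : ∀ T : minSet M, ↥(T : Subgroup G) → ℂ}
    (hf : ∀ T : minSet M, SumC p (f T)) : SumC p (h.F f) := by
  have h1 : SumC p (fun x : (∀ T : minSet M, (T : Subgroup G)) => ∏ T : minSet M, f T (x T)) :=
    fun P => sum_sylow_pi (A := fun T : minSet M => (T : Subgroup G)) hf P
  exact h1.comp h.E.symm

end Dec

end Cfsg.Agent.H793.PC

private theorem dce_a9141bcc4070 : _root_.True := by
  try have : _root_.True := by simp only [_root_.Cfsg.Agent.H793.PC.Dec.co.congr_simp]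
  exact _root_.True.intro
end

-- part: H793/PC/Five
section
set_option linter.all false
open scoped Cfsg.Agent.FastGrp

/-!
# Five character degrees: groups with a minimal normal subgroup with at least two simple factors of Lie type (helper793, S4898)

`five_multi_lie`
-/

set_option autoImplicit false
set_option linter.unusedSectionVars false
set_option linter.style.haveILetI false

namespace Cfsg.Agent.H793.PC

open Cfsg Cfsg.Agent.Characters.Core Subgroup Cfsg.Agent.Lib.MinNormalNonabelian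
  Cfsg.Agent.Lib.MinNormal Cfsg.Agent.H672 Cfsg.Agent.H638.FD Cfsg.Agent.H424.DegTools

universe u v

/-- numerical part -/
theorem five_num {X : Set ℕ} (hfin : X.Finite) {a b c d e : ℕ} (ha : a ∈ X) (hb : b ∈ X) (hc : c ∈ X) (hd : d ∈ X)
    (he : e ∈ X) (hab : a ≠ b) (hac : a ≠ c) (had : a ≠ d) (hae : a ≠ e) (hbc : b ≠ c) (hbd : b ≠ d) (hbe : b ≠ e)
    (hcd : c ≠ d) (hce : c ≠ e) (hde : d ≠ e) : 5 ≤ X.ncard := by
  have h1 : (({a, b, c, d, e} : Finset ℕ) : Set ℕ) ⊆ X := by
    intro x hx
    simp only [Finset.coe_insert, Finset.coe_singleton, Set.mem_insert_iff, Set.mem_singleton_iff] at hx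
    rcases hx with rfl | rfl | rfl | rfl | rfl <;> assumption
  have h2 : ({a, b, c, d, e} : Finset ℕ).card = 5 := by
    rw [Finset.card_insert_of_notMem, Finset.card_insert_of_notMem, Finset.card_insert_of_notMem,
      Finset.card_insert_of_notMem, Finset.card_singleton]
    all_goals simp only [Finset.mem_insert, Finset.mem_singleton, not_or]
    all_goals (clear * - hde c d e hcd hce b hbc hbd hbe a hab hac had hae; tauto)
  rw [← h2, ← Set.ncard_coe_finset]
  exact Set.ncard_le_ncard h1 hfin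

theorem finite_degrees (G : Type u) [Group G] [Finite G] : (charDegrees G).Finite := by
  have h : charDegrees G ⊆ ((Nat.divisors (Nat.card G) : Finset ℕ) : Set ℕ) := by
    intro d hd
    rw [Finset.mem_coe, Nat.mem_divisors]
    exact ⟨dvd_card hd, Nat.card_pos.ne'⟩
  exact (Finset.finite_toSet _).subset h

/-- a group without normal `p`-complement has a non-linear character of degree prime to `p` -/
theorem exists_prime_to {S : Type u} [Group S] [Finite S] {p : ℕ} (hp : p.Prime)
    (hS : ∀ N : Subgroup S, N.Normal → (Nat.card N).Coprime p → (∃ k : ℕ, N.index = p ^ k) → False) :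
    ∃ χ : S → ℂ, IsIrrCharacter S χ ∧ charDegree χ ≠ 1 ∧ ¬ p ∣ charDegree χ := by
  by_contra hcon
  push Not at hcon
  obtain ⟨N, h1, h2, h3⟩ := S4456.result (G := S) p hp fun χ hχ => hcon χ χ.2 hχ
  exact hS N h1 h2 h3

variable {G : Type u} [Group G] [Finite G] {M : Subgroup G} [hM : M.Normal]

theorem dec_of (hmin : ∀ K : Subgroup G, K.Normal → K ≤ M → K = ⊥ ∨ K = M)
    (hna : ¬ ∀ x ∈ M, ∀ y ∈ M, Commute x y) : Dec M := by
  obtain ⟨-, h2, h3, -, h5, -⟩ := nonabelian_structure M hmin hna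
  exact ⟨h2, h3, h5⟩

/-- the action of `G` on the simple factors -/
@[instance_reducible] def act : MulAction G (minSet M) where
  smul g T := cj g T
  one_smul T := Subtype.ext (by
    show (T : Subgroup G).map (MulAut.conj (1 : G)).toMonoidHom = T
    ext x; simp only [_root_.map_one, _root_.MulEquiv.toMonoidHom_eq_coe, _root_.Subgroup.mem_map, _root_.MonoidHom.coe_coe, _root_.MulAut.one_apply, _root_.exists_eq_right])
  mul_smul g k T := Subtype.ext (by
    show (T : Subgroup G).map (MulAut.conj (g * k)).toMonoidHom =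
      ((T : Subgroup G).map (MulAut.conj k).toMonoidHom).map (MulAut.conj g).toMonoidHom
    rw [map_conj_map_conj])

/-- the stabilizer of a factor -/
def stb (S : minSet M) : Subgroup G :=
  letI := act (M := M)
  MulAction.stabilizer G S

theorem mem_stb {S : minSet M} {g : G} : g ∈ stb S ↔ cj g S = S := Iff.rfl

theorem index_stb (hmin : ∀ K : Subgroup G, K.Normal → K ≤ M → K = ⊥ ∨ K = M)
    (hna : ¬ ∀ x ∈ M, ∀ y ∈ M, Commute x y) (S : minSet M) : (stb S).index = Nat.card (minSet M) := by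
  letI := act (M := M)
  obtain ⟨-, -, -, -, -, h6⟩ := nonabelian_structure M hmin hna
  have : MulAction.IsPretransitive G (minSet M) := by
    constructor
    intro S T
    obtain ⟨g, hg⟩ := h6 S S.2 T T.2
    exact ⟨g, Subtype.ext hg.symm⟩
  exact MulAction.index_stabilizer_of_transitive G S

section theta

variable (h : Dec M) [Fintype (minSet M)] {p : ℕ} [hp : Fact p.Prime] (S : minSet M) (θ : ↥(S : Subgroup G) → ℂ)
  (e : ∀ T : minSet M, ↥(T : Subgroup G) ≃* ↥(S : Subgroup G))

/-- the conjugates of `θ` -/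
def th (T : minSet M) : ↥(T : Subgroup G) → ℂ := θ ∘ e T

variable {S θ e}

theorem th_irr (hθ : IsSt p θ) (T : minSet M) : IsIrrCharacter ↥(T : Subgroup G) (th S θ e T) :=
  isIrr_comp (e T).toMonoidHom (e T).surjective hθ.1

theorem th_sumC (hθ : IsSt p θ) (T : minSet M) : SumC p (th S θ e T) := by
  apply SumC.comp
  intro P
  exact (hθ.2.2 P).2

theorem th_conj (hθ : IsSt p θ) (T T' : minSet M) (f : ↥(T : Subgroup G) ≃* ↥(T' : Subgroup G)) :
    th S θ e T' ∘ f = th S θ e T := by
  funext x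
  show θ (e T' (f x)) = θ (e T x)
  have h1 := hθ.2.1 (((e T).symm.trans f).trans (e T')) (e T x)
  rw [← h1]
  simp

theorem th_one (T : minSet M) : th S θ e T 1 = θ 1 := by
  show θ (e T 1) = θ 1
  rw [map_one]

omit hp in
theorem sumC_one (T : minSet M) : SumC p (1 : ↥(T : Subgroup G) → ℂ) := by
  intro P
  letI := Fintype.ofFinite ↥(Subgroup.normalizer ((P : Subgroup ↥(T : Subgroup G)) : Set ↥(T : Subgroup G)))
  rw [finsum_eq_sum_of_fintype]
  simp only [_root_.Sylow.coe_coe, _root_.Pi.one_apply, _root_.Finset.sum_const, _root_.Finset.card_univ, _root_.nsmul_eq_mul, _root_.mul_one, _root_.Nat.card_eq_fintype_card]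

include h in
/-- the degree `Q ^ k` -/
theorem pow_mem (hθ : IsSt p θ) (e : ∀ T : minSet M, ↥(T : Subgroup G) ≃* ↥(S : Subgroup G))
    (P : Sylow p ↥(S : Subgroup G))
    (hext : ∀ η : M → ℂ, IsIrrCharacter M η → SumC p η → (inertia M η).index * charDegree η ∈ charDegrees G) :
    Nat.card P ^ Nat.card (minSet M) ∈ charDegrees G := by
  have h1 := hext (h.F (th S θ e)) (h.isIrr_F (th_irr hθ)) (h.sum_F (th_sumC hθ))
  have h2 : inertia M (h.F (th S θ e)) = ⊤ := by
    rw [eq_top_iff]
    intro g _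
    rw [h.mem_inertia_F (th_irr hθ)]
    intro T
    exact th_conj hθ _ _ _
  have h3 : charDegree (h.F (th S θ e)) = Nat.card P ^ Nat.card (minSet M) := by
    apply charDegree_of_eq
    rw [h.F_one]
    simp_rw [th_one]
    rw [Finset.prod_const, (hθ.2.2 P).1, Finset.card_univ, ← Nat.card_eq_fintype_card (α := minSet M)]
    push_cast
    rfl
  rw [h2, h3, Subgroup.index_top, one_mul] at h1
  exact h1

include h in
/-- the degree `k Q` -/
theorem mul_mem [DecidableEq (minSet M)] (hθ : IsSt p θ)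
    (P : Sylow p ↥(S : Subgroup G)) (hP : 2 ≤ Nat.card P)
    (hidx : (stb S).index = Nat.card (minSet M))
    (hext : ∀ η : M → ℂ, IsIrrCharacter M η → SumC p η → (inertia M η).index * charDegree η ∈ charDegrees G) :
    Nat.card (minSet M) * Nat.card P ∈ charDegrees G := by
  set f : ∀ T : minSet M, ↥(T : Subgroup G) → ℂ := Function.update (fun T => 1) S θ with hf
  have f1 : f S = θ := Function.update_self _ _ _
  have f2 : ∀ T, T ≠ S → f T = 1 := fun T hT => Function.update_of_ne hT _ _
  have hQ : θ 1 = (Nat.card P : ℂ) := (hθ.2.2 P).1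
  have hne : θ 1 ≠ 1 := by
    rw [hQ]
    intro h1
    have h2 : Nat.card P = 1 := by exact_mod_cast h1
    omega
  have g1 : ∀ T : minSet M, IsIrrCharacter ↥(T : Subgroup G) (f T) := by
    intro T
    by_cases hT : T = S
    · subst hT; rw [f1]; exact hθ.1
    · rw [f2 T hT]; exact isIrr_one
  have g2 : ∀ T, SumC p (f T) := by
    intro T
    by_cases hT : T = S
    · subst hT; rw [f1]; exact fun P => (hθ.2.2 P).2
    · rw [f2 T hT]; exact sumC_one T
  have h1 := hext (h.F f) (h.isIrr_F g1) (h.sum_F g2)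
  have h2 : inertia M (h.F f) = stb S := by
    ext g
    rw [h.mem_inertia_F g1, mem_stb]
    constructor
    · intro h3
      by_contra h4
      have h5 := congrFun (h3 S) 1
      rw [f2 _ h4, f1] at h5
      exact hne h5.symm
    · intro h3 T
      by_cases hT : T = S
      · subst hT
        funext x
        have key : ∀ (T' : minSet M) (hT' : T' = T) (c : ↥(T : Subgroup G) ≃* ↥(T' : Subgroup G)),
            f T' (c x) = f T x := by
          intro T' hT' c
          subst hT'
          rw [f1]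
          exact hθ.2.1 c x
        exact key _ h3 (ci g T)
      · have h4 : cj g T ≠ S := fun h4 => hT ((cj g).injective (h4.trans h3.symm))
        rw [f2 _ h4, f2 T hT]
        rfl
  have h3 : charDegree (h.F f) = Nat.card P := by
    apply charDegree_of_eq
    rw [h.F_one, Finset.prod_eq_single S]
    · rw [f1, hQ]
    · intro T _ hT
      rw [f2 T hT]
      rfl
    · intro h; exact absurd (Finset.mem_univ _) h
  rw [h2, h3, hidx] at h1
  exact h1

include h in
/-- a degree divisible by `k d Q ^ (k - 1)` -/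
theorem exists_dvd [DecidableEq (minSet M)] (hθ : IsSt p θ)
    (e : ∀ T : minSet M, ↥(T : Subgroup G) ≃* ↥(S : Subgroup G)) {ψ : ↥(S : Subgroup G) → ℂ}
    (hψ : IsIrrCharacter ↥(S : Subgroup G) ψ) (P : Sylow p ↥(S : Subgroup G)) (hP : 2 ≤ Nat.card P)
    (hψp : ¬ p ∣ charDegree ψ)
    (hidx : (stb S).index = Nat.card (minSet M)) :
    ∃ D ∈ charDegrees G, Nat.card (minSet M) * (charDegree ψ * Nat.card P ^ (Nat.card (minSet M) - 1)) ∣ D := by
  set f : ∀ T : minSet M, ↥(T : Subgroup G) → ℂ := Function.update (th S θ e) S ψ with hf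
  have f1 : f S = ψ := Function.update_self _ _ _
  have f2 : ∀ T, T ≠ S → f T = th S θ e T := fun T hT => Function.update_of_ne hT _ _
  have hQ : θ 1 = (Nat.card P : ℂ) := (hθ.2.2 P).1
  have g1 : ∀ T : minSet M, IsIrrCharacter ↥(T : Subgroup G) (f T) := by
    intro T
    by_cases hT : T = S
    · subst hT; rw [f1]; exact hψ
    · rw [f2 T hT]; exact th_irr hθ T
  have hpP : p ∣ Nat.card P := by
    obtain ⟨n, hn⟩ := IsPGroup.iff_card.1 P.isPGroup'
    have h1 : Nat.card P = p ^ n := hn
    rw [h1]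
    apply dvd_pow_self
    rintro rfl
    rw [h1, pow_zero] at hP
    omega
  have h2 : inertia M (h.F f) ≤ stb S := by
    intro g
    rw [h.mem_inertia_F g1, mem_stb]
    intro h3
    by_contra h4
    have h5 := congrFun (h3 S) 1
    rw [f2 _ h4, f1] at h5
    have h6 : (th S θ e (cj g S) ∘ ci g S) 1 = θ 1 := by
      show th S θ e (cj g S) (ci g S 1) = θ 1
      rw [map_one, th_one]
    rw [h6, hQ] at h5
    apply hψp
    have h7 : charDegree ψ = Nat.card P := charDegree_of_eq h5.symm
    rw [h7]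
    exact hpP
  obtain ⟨χ, hχ, hχ'⟩ := exists_over_subtype M (h.isIrr_F g1)
  have h3 := index_mul_charDegree_dvd M hχ (h.isIrr_F g1) hχ'
  refine ⟨charDegree χ, ⟨⟨χ, hχ⟩, rfl⟩, ?_⟩
  refine dvd_trans (mul_dvd_mul ?_ ?_) h3
  · rw [← hidx]
    exact Subgroup.index_dvd_of_le h2
  · have h4 : charDegree (h.F f) = charDegree ψ * Nat.card P ^ (Nat.card (minSet M) - 1) := by
      apply charDegree_of_eq
      rw [h.F_one, ← Finset.mul_prod_erase Finset.univ _ (Finset.mem_univ S), f1]
      have h5 : ∏ T ∈ Finset.univ.erase S, f T 1 = ∏ T ∈ Finset.univ.erase S, θ 1 := by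
        refine Finset.prod_congr rfl fun T hT => ?_
        rw [f2 T (Finset.ne_of_mem_erase hT), th_one]
      rw [h5, Finset.prod_const, hQ, Finset.card_erase_of_mem (Finset.mem_univ S), Finset.card_univ,
        ← Nat.card_eq_fintype_card (α := minSet M), ← coe_charDegree hψ]
      push_cast
      rfl
    rw [h4]

end theta

/-- a `p`-group with trivial centre is trivial -/
theorem card_of_pgroup {p : ℕ} [hp : Fact p.Prime] {S : Subgroup G} (hc : ∀ z ∈ S, (∀ t ∈ S, Commute z t) → z = 1)
    (hS : S ≠ ⊥) : ¬ IsPGroup p S := by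
  intro h
  have h0 : Nontrivial S := (Subgroup.nontrivial_iff_ne_bot S).2 hS
  have h1 : Nontrivial (Subgroup.center S) := h.center_nontrivial
  obtain ⟨⟨z, hz⟩, hz1⟩ := exists_ne (1 : Subgroup.center S)
  apply hz1
  apply Subtype.ext
  apply Subtype.ext
  refine hc z z.2 fun t ht => ?_
  exact (congrArg Subtype.val (Subgroup.mem_center_iff.1 hz ⟨t, ht⟩)).symm

/-- **Five degrees.** -/
theorem five_multi_lie' {p : ℕ} [hp : Fact p.Prime]
    (hmin : ∀ K : Subgroup G, K.Normal → K ≤ M → K = ⊥ ∨ K = M) (hna : ¬ ∀ x ∈ M, ∀ y ∈ M, Commute x y)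
    (S : Subgroup G) (hS : S ∈ minSet M) (hne : S ≠ M) (θ : S → ℂ) (hθ : IsSt p θ) (hP3 : ∀ P : Sylow p S, 3 ≤ Nat.card P)
    (hext : ∀ η : M → ℂ, IsIrrCharacter M η → SumC p η → (inertia M η).index * charDegree η ∈ charDegrees G) :
    5 ≤ (charDegrees G).ncard := by
  classical
  letI : Fintype (minSet M) := Fintype.ofFinite _
  have h := dec_of hmin hna
  obtain ⟨-, -, -, hsim, -, htr⟩ := nonabelian_structure M hmin hna
  obtain ⟨P⟩ : Nonempty (Sylow p ↥S) := inferInstance
  have hP := hP3 P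
  have hP2 : 2 ≤ Nat.card P := by omega
  set Q := Nat.card P with hQ
  set k := Nat.card (minSet M) with hk
  let S' : minSet M := ⟨S, hS⟩
  have hidx : (stb S').index = k := index_stb hmin hna S'
  have e : ∀ T : minSet M, Nonempty (↥(T : Subgroup G) ≃* ↥S) := by
    intro T
    obtain ⟨g, hg⟩ := htr S hS T T.2
    rw [hg]
    exact ⟨(MulEquiv.subgroupMap (MulAut.conj g) S).symm⟩
  have e : ∀ T : minSet M, ↥(T : Subgroup G) ≃* ↥S := fun T => (e T).some
  -- `k ≥ 2`
  have hk2 : 2 ≤ k := by
    by_contra hcon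
    have h1 : k = 1 := by
      have : 0 < k := by
        have : Nonempty (minSet M) := ⟨S'⟩
        exact Nat.card_pos
      omega
    apply hne
    have h2 : minSet M = {S} := by
      have h3 : Subsingleton (minSet M) := (Nat.card_eq_one_iff_unique.1 h1).1
      apply Set.eq_singleton_iff_unique_mem.2 ⟨hS, fun T hT => ?_⟩
      exact congrArg Subtype.val (Subsingleton.elim (⟨T, hT⟩ : minSet M) S')
    have h3 := h.sup
    rw [h2, sSup_singleton] at h3
    exact h3
  obtain ⟨n, hn⟩ : ∃ n, Q = p ^ n := IsPGroup.iff_card.1 P.isPGroup'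
  have hn0 : n ≠ 0 := by
    rintro rfl
    rw [hn, pow_zero] at hP
    omega
  have hpQ : p ∣ Q := by rw [hn]; exact dvd_pow_self p hn0
  have hpS : p ∣ Nat.card S := hpQ.trans (Subgroup.card_subgroup_dvd_card _)
  have hSpg : ¬ IsPGroup p S := card_of_pgroup (h.ctr S hS) hS.2.1
  -- the character of `S`
  obtain ⟨ψ, hψ, hψ1, hψp⟩ := exists_prime_to (S := S) hp.out (by
    intro N hN hN1 hN2
    have := hsim S hS
    rcases hN.eq_bot_or_eq_top with rfl | rfl
    · obtain ⟨m, hm⟩ := hN2
      rw [Subgroup.index_bot] at hm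
      exact hSpg (IsPGroup.iff_card.2 ⟨m, hm⟩)
    · rw [Subgroup.card_top, Nat.coprime_comm] at hN1
      exact (Nat.Prime.coprime_iff_not_dvd hp.out).1 hN1 hpS)
  -- the character of `G`
  obtain ⟨χ, hχ, hχ1, hχp⟩ := exists_prime_to (S := G) hp.out (by
    intro N hN hN1 hN2
    obtain ⟨m, hm⟩ := hN2
    rcases hmin (N ⊓ M) inferInstance inf_le_right with h1 | h1
    · apply hSpg
      have h2 : Nat.card M ∣ p ^ m := by
        rw [← hm]
        have h3 : N.relIndex M = Nat.card M := by
          rw [← Subgroup.inf_relIndex_right, h1, Subgroup.relIndex_bot_left]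
        rw [← h3]
        exact Subgroup.relIndex_dvd_index_of_normal N M
      have h3 : Nat.card S ∣ p ^ m := (Subgroup.card_dvd_of_le hS.1).trans h2
      obtain ⟨l, -, hl⟩ := (Nat.dvd_prime_pow hp.out).1 h3
      exact IsPGroup.iff_card.2 ⟨l, hl⟩
    · have h2 : Nat.card S ∣ Nat.card N := Subgroup.card_dvd_of_le (hS.1.trans (h1 ▸ inf_le_left))
      rw [Nat.coprime_comm] at hN1
      exact (Nat.Prime.coprime_iff_not_dvd hp.out).1 hN1 (hpS.trans h2))
  have m1 : (1 : ℕ) ∈ charDegrees G := one_mem_degrees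
  have m2 : Q ^ k ∈ charDegrees G := pow_mem h (S := S') hθ e P hext
  have m3 : k * Q ∈ charDegrees G := mul_mem h (S := S') hθ P hP2 hidx hext
  obtain ⟨D, m4, hD⟩ := exists_dvd h (S := S') hθ e hψ P hP2 hψp hidx
  have m5 : charDegree χ ∈ charDegrees G := ⟨⟨χ, hχ⟩, rfl⟩
  have hψ0 : 0 < charDegree ψ := charDegree_pos hψ
  have hD0 : 0 < D := pos_of_mem m4
  have hkQ : k < Q ^ (k - 1) := by
    obtain ⟨j, hj⟩ : ∃ j, k = j + 2 := ⟨k - 2, by omega⟩
    rw [hj, show j + 2 - 1 = j + 1 by omega]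
    clear_value k Q
    clear hj hD hidx m2 m3 hk2 hk
    induction j with
    | zero => simpa using (show 2 < Q by omega)
    | succ j ih =>
      rw [pow_succ]
      nlinarith only [hP, ih]
  have hp1 : ¬ p ∣ 1 := fun h => hp.out.one_lt.ne' (Nat.dvd_one.1 h)
  have hpk : p ∣ Q ^ k := dvd_pow hpQ (by omega)
  have hpk1 : p ∣ Q ^ (k - 1) := dvd_pow hpQ (by omega)
  have hpkQ : p ∣ k * Q := hpQ.mul_left k
  have hpD : p ∣ D := (hpk1.mul_left _).mul_left _ |>.trans hD
  have hQk : Q ^ k = Q ^ (k - 1) * Q := by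
    rw [← pow_succ]
    congr 1
    omega
  refine five_num (finite_degrees G) m1 m2 m3 m4 m5 ?_ ?_ ?_ ?_ ?_ ?_ ?_ ?_ ?_ ?_
  · rintro h1; rw [← h1] at hpk; exact hp1 hpk
  · rintro h1; rw [← h1] at hpkQ; exact hp1 hpkQ
  · rintro h1; rw [← h1] at hpD; exact hp1 hpD
  · exact fun h1 => hχ1 h1.symm
  · intro h1
    rw [hQk] at h1
    have h2 := Nat.eq_of_mul_eq_mul_right (show 0 < Q by omega) h1
    omega
  · intro h1
    -- `D = Q ^ k` is a power of `p`
    have h2 : charDegree ψ ∣ D := (Dvd.intro _ rfl : charDegree ψ ∣ charDegree ψ * Q ^ (k - 1)).mul_left _ |>.trans hD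
    rw [← h1, hn, ← pow_mul] at h2
    obtain ⟨l, -, hl⟩ := (Nat.dvd_prime_pow hp.out).1 h2
    rcases Nat.eq_zero_or_pos l with rfl | hl0
    · exact hψ1 (by rw [hl, pow_zero])
    · exact hψp (by rw [hl]; exact dvd_pow_self p hl0.ne')
  · rintro h1; rw [h1] at hpk; exact hχp hpk
  · intro h1
    have h2 := Nat.le_of_dvd hD0 hD
    rw [← h1] at h2
    have h3 : 2 ≤ charDegree ψ := by omega
    have h4 : Q ≤ Q ^ (k - 1) := by
      calc Q = Q ^ 1 := (pow_one Q).symm
        _ ≤ Q ^ (k - 1) := Nat.pow_le_pow_right (by omega) (by omega)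
    have h5 : 2 * Q ≤ charDegree ψ * Q ^ (k - 1) := Nat.mul_le_mul h3 h4
    have h6 : k * (2 * Q) ≤ k * (charDegree ψ * Q ^ (k - 1)) := Nat.mul_le_mul_left k h5
    have h7 : k * (2 * Q) ≤ k * Q := h6.trans h2
    have h8 : 2 * Q ≤ Q := Nat.le_of_mul_le_mul_left h7 (by omega)
    omega
  · rintro h1; rw [h1] at hpkQ; exact hχp hpkQ
  · rintro h1; rw [h1] at hpD; exact hχp hpD

end Cfsg.Agent.H793.PC
end
end
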